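import Groth.Prelude.Def_W4bk6serrecg25LocSym
import Groth.Agent.CrvFF30.Basic
import Groth.Agent.Curves2.CurvePlaces
import Groth.Agent.Cyc90.OrdNorm
import Groth.Agent.FF30.Approx
import Groth.Agent.FF30.AlgClosed
import Groth.Agent.FF30.Degree
import Mathlib.AlgebraicGeometry.AlgClosed.Basic

/-! Orders of rational functions at the rational points of a smooth proper curve. -/

set_option autoImplicit false
set_option linter.style.haveILetI false
set_option linter.unusedSectionVars false
set_option backward.isDefEq.respectTransparency.types false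

universe v u

open CategoryTheory AlgebraicGeometry TopologicalSpace IsLocalRing FunFld WithZero LocSym
open scoped Multiplicative

namespace Groth.Agent.LocSym56

variable {k : Type u} [Field k] [IsAlgClosed k] {X : Scheme.{u}} [IsIntegral X]
  {c : X ⟶ Spec (CommRingCat.of k)} [IsProper c] [Smooth c]

omit [IsAlgClosed k] [IsProper c] [Smooth c] in
theorem constFun_eq_kStalk (a : k) : constFun c a = Cyc90.kStalk c (genericPoint X) a := by
  have h : CommRingCat.ofHom (constFun c) = CommRingCat.ofHom (Cyc90.kStalk c (genericPoint X)) := by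
    have h1 : (Spec.map (CommRingCat.ofHom (Cyc90.kStalk c (genericPoint X)))).appTop =
        (X.fromSpecStalk (genericPoint X) ≫ c).appTop := by rw [Cyc90.kStalk_spec]
    rw [Scheme.Hom.comp_appTop, Scheme.fromSpecStalk_appTop] at h1
    have h2 := Scheme.ΓSpecIso_naturality (CommRingCat.ofHom (Cyc90.kStalk c (genericPoint X)))
    rw [h1] at h2
    simp only [Category.assoc, homOfLE_refl, op_id, CategoryTheory.Functor.map_id, Category.id_comp,
      Iso.inv_hom_id, Category.comp_id] at h2
    rw [← cancel_epi (Scheme.ΓSpecIso (CommRingCat.of k)).hom, ← h2]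
    simp [constFun]
  exact congrArg (fun φ : CommRingCat.of k ⟶ X.presheaf.stalk (genericPoint X) => φ.hom a) h

section
variable (hdim : topologicalKrullDim X = 1)

/-- The place of a rational point. -/
noncomputable def pl :
    letI := CrvFF30.kAlg c
    Pt c ≃ Place k X.functionField :=
  letI := CrvFF30.kAlg c
  ((pointEquivClosedPoint c).trans (Equiv.subtypeEquivRight fun _ => mem_closedPoints_iff)).trans
    (CrvFF30.exists_pointEquiv c hdim).choose

theorem pl_spec (x : Pt c) :
    letI := CrvFF30.kAlg c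
    ∀ z : X.functionField, (pl hdim x).1 z ≤ 1 ↔ Curves2.RegAt x.pt z :=
  letI := CrvFF30.kAlg c
  fun z => ((CrvFF30.exists_pointEquiv c hdim).choose_spec _).1 z

theorem ord_eq (x : Pt c) (g : X.functionField) :
    letI := CrvFF30.kAlg c
    x.ord g = (pl hdim x).ord g := by
  letI := CrvFF30.kAlg c
  have : IsLocallyNoetherian X := LocallyOfFiniteType.isLocallyNoetherian c
  rcases eq_or_ne g 0 with rfl | hg
  · rw [FF30.ord_zero]
    simp only [Pt.ord, CycAlg.ordFrac, map_zero]
    split_ifs <;> rfl
  · let A := X.presheaf.stalk x.pt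
    let P := pl hdim x
    let ψ : A →+* P.O :=
      (algebraMap A X.functionField).codRestrict P.O fun a => (pl_spec hdim x _).2 ⟨a, rfl⟩
    have hψ : Function.Bijective ψ := by
      refine ⟨fun a b hab => IsFractionRing.injective A X.functionField (congrArg Subtype.val hab), fun z => ?_⟩
      obtain ⟨b, hb⟩ := (pl_spec hdim x z.1).1 z.2
      exact ⟨b, Subtype.ext hb⟩
    have := Cyc90.isDVR_O P
    have hcl : IsClosed ({x.pt} : Set X) := mem_closedPoints_iff.1 (pointEquivClosedPoint c x).2
    have : Ring.KrullDimLE 1 A := Ring.krullDimLE_iff.2 (Cyc90.dim_stalk_eq_one hdim hcl).le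
    rw [← Cyc90.ordFrac_O P g hg]
    exact (Cyc90.ordFrac_congr (RingEquiv.ofBijective ψ hψ) (RingHom.id _) (fun a => rfl) g hg).symm

include hdim

theorem ff :
    letI := CrvFF30.kAlg c
    FF30.FF k X.functionField :=
  Cyc90.ff_functionField c hdim

theorem ord_zero (x : Pt c) : x.ord (0 : X.functionField) = 0 := by
  letI := CrvFF30.kAlg c
  rw [ord_eq hdim, FF30.ord_zero]

theorem ord_one (x : Pt c) : x.ord (1 : X.functionField) = 0 := by
  letI := CrvFF30.kAlg c
  rw [ord_eq hdim, FF30.ord_one]

theorem ord_mul (x : Pt c) {f g : X.functionField} (hf : f ≠ 0) (hg : g ≠ 0) :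
    x.ord (f * g) = x.ord f + x.ord g := by
  letI := CrvFF30.kAlg c
  simp only [ord_eq hdim]
  exact FF30.ord_mul _ hf hg

theorem ord_inv (x : Pt c) (f : X.functionField) : x.ord f⁻¹ = -x.ord f := by
  letI := CrvFF30.kAlg c
  simp only [ord_eq hdim]
  exact FF30.ord_inv _ f

theorem ord_div (x : Pt c) {f g : X.functionField} (hf : f ≠ 0) (hg : g ≠ 0) :
    x.ord (f / g) = x.ord f - x.ord g := by
  letI := CrvFF30.kAlg c
  simp only [ord_eq hdim]
  exact FF30.ord_div _ hf hg

theorem ord_pow (x : Pt c) (f : X.functionField) (n : ℕ) : x.ord (f ^ n) = n * x.ord f := by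
  letI := CrvFF30.kAlg c
  simp only [ord_eq hdim]
  exact FF30.ord_pow _ f n

theorem ord_zpow (x : Pt c) (f : X.functionField) (n : ℤ) : x.ord (f ^ n) = n * x.ord f := by
  letI := CrvFF30.kAlg c
  simp only [ord_eq hdim]
  exact FF30.ord_zpow _ f n

theorem ord_neg (x : Pt c) (f : X.functionField) : x.ord (-f) = x.ord f := by
  letI := CrvFF30.kAlg c
  simp only [ord_eq hdim]
  exact FF30.ord_neg _ f

theorem ord_sub_comm (x : Pt c) (f g : X.functionField) : x.ord (f - g) = x.ord (g - f) := by
  rw [← neg_sub, ord_neg hdim]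

theorem ord_const (x : Pt c) (a : k) : x.ord (constFun c a) = 0 := by
  letI := CrvFF30.kAlg c
  rw [ord_eq hdim, constFun_eq_kStalk]
  exact FF30.ord_algebraMap _ a

/-- The ultrametric inequality. -/
theorem le_ord_add (x : Pt c) {f g : X.functionField} (h : f + g ≠ 0) (n : ℤ)
    (hf : f = 0 ∨ n ≤ x.ord f) (hg : g = 0 ∨ n ≤ x.ord g) : n ≤ x.ord (f + g) := by
  letI := CrvFF30.kAlg c
  simp only [ord_eq hdim] at *
  have h' : ∀ z : X.functionField, (z = 0 ∨ n ≤ (pl hdim x).ord z) → (pl hdim x).1 z ≤ exp (-n) := by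
    rintro z (rfl | hz)
    · simp
    · rcases eq_or_ne z 0 with rfl | h0
      · simp
      · rw [FF30.val_le_exp_iff _ h0, neg_neg]; exact hz
  have h1 := ((pl hdim x).1.map_add f g).trans (max_le (h' f hf) (h' g hg))
  rwa [FF30.val_le_exp_iff _ h, neg_neg] at h1

theorem ord_add_eq_of_lt (x : Pt c) {f g : X.functionField} (hf : f ≠ 0) (h : g = 0 ∨ x.ord f < x.ord g) :
    f + g ≠ 0 ∧ x.ord (f + g) = x.ord f := by
  rcases h with rfl | h
  · simp [hf]
  rcases eq_or_ne g 0 with rfl | hg
  · simp [hf]
  have hne : f + g ≠ 0 := fun h0 => by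
    rw [add_eq_zero_iff_eq_neg.1 h0, ord_neg hdim] at h
    omega
  refine ⟨hne, le_antisymm ?_ (le_ord_add hdim x hne _ (.inr le_rfl) (.inr h.le))⟩
  by_contra hlt
  push Not at hlt
  have h1 := le_ord_add hdim x (f := f + g) (g := -g) (by simpa using hf) (min (x.ord (f + g)) (x.ord g))
    (.inr (min_le_left _ _)) (.inr (by rw [ord_neg hdim]; exact min_le_right _ _))
  rw [add_neg_cancel_right] at h1
  omega

theorem finite_ord (f : X.functionField) : {x : Pt c | x.ord f ≠ 0}.Finite := by
  letI := CrvFF30.kAlg c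
  refine (((ff (c := c) hdim).finite_support_ord f).preimage (pl hdim).injective.injOn).subset fun x hx => ?_
  simpa [ord_eq hdim] using hx

theorem finsum_ord (f : X.functionField) : ∑ᶠ x : Pt c, x.ord f = 0 := by
  letI := CrvFF30.kAlg c
  simp only [ord_eq hdim]
  rw [finsum_comp_equiv (pl hdim) (f := fun P => P.ord f)]
  have h := (ff (c := c) hdim).deg_div f
  rw [(ff (c := c) hdim).deg_eq_sum_coeff, Finsupp.sum] at h
  refine (finsum_eq_sum_of_support_subset _ (s := (FunFld.div k f).support) fun P hP => ?_).trans ?_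
  · rw [Finset.mem_coe, Finsupp.mem_support_iff, (ff (c := c) hdim).div_apply]
    exact hP
  · simpa [(ff (c := c) hdim).div_apply] using h

theorem exists_value (x : Pt c) {f : X.functionField} (hf : f = 0 ∨ 0 ≤ x.ord f) :
    ∃ a : k, HasValueAt x f a := by
  letI := CrvFF30.kAlg c
  have h1 : (pl hdim x).1 f ≤ 1 := by
    rcases hf with rfl | hf
    · simp
    · rw [ord_eq hdim] at hf
      exact (FF30.val_le_one_iff _).2 hf
  obtain ⟨a, ha⟩ := (ff (c := c) hdim).exists_sub_lt _ h1
  refine ⟨a, ?_⟩
  rcases eq_or_ne f (constFun c a) with h | h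
  · exact .inl h
  · refine .inr ?_
    rw [ord_eq hdim]
    refine (FF30.val_lt_one_iff _ (sub_ne_zero.2 h)).1 ?_
    rw [constFun_eq_kStalk]
    exact ha

theorem value_unique (x : Pt c) {f : X.functionField} {a b : k} (ha : HasValueAt x f a)
    (hb : HasValueAt x f b) : a = b := by
  by_contra hab
  have hne : constFun c b - constFun c a ≠ 0 := sub_ne_zero.2 fun h => hab ((constFun c).injective h).symm
  have h := le_ord_add hdim x (f := f - constFun c a) (g := -(f - constFun c b)) (by convert hne using 1; ring) 1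
    (ha.imp (fun h => sub_eq_zero.2 h) fun h => h)
    (hb.imp (fun h => neg_eq_zero.2 (sub_eq_zero.2 h)) fun h => by rw [ord_neg hdim]; exact h)
  rw [show f - constFun c a + -(f - constFun c b) = constFun c b - constFun c a by ring, ← map_sub,
    ord_const hdim] at h
  omega

theorem eq_const_of_ord_nonneg {f : X.functionField} (h : ∀ x : Pt c, 0 ≤ x.ord f) :
    ∃ a : k, f = constFun c a := by
  letI := CrvFF30.kAlg c
  obtain ⟨P⟩ := (ff (c := c) hdim).nonempty_place
  let x₀ := (pl hdim).symm P
  obtain ⟨a, ha⟩ := exists_value hdim x₀ (f := f) (.inr (h x₀))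
  refine ⟨a, ha.resolve_right fun hpos => ?_⟩
  have hne : f - constFun c a ≠ 0 := fun h0 => by rw [h0, ord_zero hdim] at hpos; exact lt_irrefl _ hpos
  have hnn : ∀ x : Pt c, 0 ≤ x.ord (f - constFun c a) := fun x => by
    rw [sub_eq_add_neg] at hne ⊢
    exact le_ord_add hdim x hne 0 (.inr (h x)) (.inr (by rw [ord_neg hdim, ord_const hdim]))
  have hsum := finsum_ord (c := c) hdim (f - constFun c a)
  have := single_le_finsum (f := fun x : Pt c => x.ord (f - constFun c a)) x₀ (finite_ord hdim _) hnn
  omega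

/-- Weak approximation. -/
theorem exists_approx (S : Finset (Pt c)) (t : Pt c → X.functionField) (n : Pt c → ℤ) :
    ∃ y : X.functionField, ∀ x ∈ S, y = t x ∨ n x ≤ x.ord (y - t x) := by
  classical
  letI := CrvFF30.kAlg c
  obtain ⟨y, hy⟩ := FF30.exists_approx (S.image (pl hdim)) (fun P => t ((pl hdim).symm P))
    (fun P => -n ((pl hdim).symm P))
  refine ⟨y, fun x hx => ?_⟩
  have h := hy _ (Finset.mem_image_of_mem _ hx)
  simp only [Equiv.symm_apply_apply] at h
  rcases eq_or_ne y (t x) with e | e
  · exact .inl e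
  · rw [FF30.val_le_exp_iff _ (sub_ne_zero.2 e), neg_neg] at h
    exact .inr (by rw [ord_eq hdim]; exact h)

end

end Groth.Agent.LocSym56
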