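import Groth.Agent.LocSym56.Weil
import Groth.Prelude.Def_W4c1etcurveeff2PicMod

/-! The generalised Picard group with a reduced modulus. -/

set_option autoImplicit false
set_option linter.style.haveILetI false
set_option linter.unusedSectionVars false
set_option backward.isDefEq.respectTransparency.types false

universe u

open CategoryTheory AlgebraicGeometry TopologicalSpace LocSym W4c1etcurveeff2

namespace Groth.Agent.LocSym56

variable {k : Type u} [Field k] [IsAlgClosed k] {X : Scheme.{u}} [IsIntegral X]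
  {c : X ⟶ Spec (CommRingCat.of k)} [IsProper c] [Smooth c] (hdim : topologicalKrullDim X = 1)

/-- The divisor of a function. -/
noncomputable def divOf (g : X.functionField) : Pt c →₀ ℤ :=
  Finsupp.ofSupportFinite (fun x : Pt c => x.ord g) (finite_ord hdim g)

theorem divOf_apply (g : X.functionField) (x : Pt c) : divOf hdim g x = x.ord g := rfl

include hdim

theorem isDivOf_divOf {g : X.functionField} (hg : g ≠ 0) : IsDivOf c (divOf hdim g) g :=
  ⟨hg, fun _ => rfl⟩

theorem isDivOf_add {D E : Pt c →₀ ℤ} {f g : X.functionField} (hD : IsDivOf c D f) (hE : IsDivOf c E g) :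
    IsDivOf c (D + E) (f * g) :=
  ⟨mul_ne_zero hD.1 hE.1, fun x => by rw [Finsupp.add_apply, hD.2, hE.2, ord_mul hdim x hD.1 hE.1]⟩

theorem isDivOf_neg {D : Pt c →₀ ℤ} {f : X.functionField} (hD : IsDivOf c D f) : IsDivOf c (-D) f⁻¹ :=
  ⟨inv_ne_zero hD.1, fun x => by rw [Finsupp.neg_apply, hD.2, ord_inv hdim]⟩

theorem isDivOf_zero : IsDivOf c (0 : Pt c →₀ ℤ) (1 : X.functionField) :=
  ⟨one_ne_zero, fun x => by rw [Finsupp.zero_apply, ord_one hdim]⟩

theorem isDivOf_zsmul {D : Pt c →₀ ℤ} {f : X.functionField} (hD : IsDivOf c D f) (n : ℤ) :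
    IsDivOf c (n • D) (f ^ n) :=
  ⟨zpow_ne_zero _ hD.1, fun x => by rw [Finsupp.smul_apply, hD.2, ord_zpow hdim, smul_eq_mul]⟩

/-- Functions with the same divisor differ by a constant. -/
theorem eq_const_mul_of_isDivOf {D : Pt c →₀ ℤ} {f g : X.functionField} (hf : IsDivOf c D f)
    (hg : IsDivOf c D g) : ∃ a : kˣ, f = constFun c (a : k) * g := by
  obtain ⟨a, ha⟩ := eq_const_of_ord_nonneg (c := c) hdim (f := f / g) fun x => by
    rw [ord_div hdim x hf.1 hg.1, ← hf.2, ← hg.2, sub_self]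
  have ha0 : a ≠ 0 := fun e => div_ne_zero hf.1 hg.1 (by rw [ha, e, map_zero])
  exact ⟨Units.mk0 a ha0, by rw [Units.val_mk0, ← ha, div_mul_cancel₀ f hg.1]⟩

theorem mem_principal (D : Pt c →₀ ℤ) : D ∈ principal c ↔ ∃ g, IsDivOf c D g := by
  refine ⟨fun h => ?_, fun h => AddSubgroup.subset_closure h⟩
  induction h using AddSubgroup.closure_induction with
  | mem D hD => exact hD
  | zero => exact ⟨1, isDivOf_zero hdim⟩
  | add D E _ _ hD hE => exact ⟨_, isDivOf_add hdim hD.choose_spec hE.choose_spec⟩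
  | neg D _ hD => exact ⟨_, isDivOf_neg hdim hD.choose_spec⟩

theorem mem_principalMod (m : Pt c →₀ ℕ) (D : divAway c m) :
    D ∈ principalMod c m ↔ ∃ g, IsDivOf c (D : Pt c →₀ ℤ) g ∧ Cong1 m g := by
  refine ⟨fun h => ?_, fun h => AddSubgroup.subset_closure h⟩
  induction h using AddSubgroup.closure_induction with
  | mem D hD => exact hD
  | zero => exact ⟨1, isDivOf_zero hdim, fun x _ => .inl rfl⟩
  | add D E _ _ hD hE =>
    obtain ⟨f, hf, hf'⟩ := hD
    obtain ⟨g, hg, hg'⟩ := hE
    exact ⟨f * g, isDivOf_add hdim hf hg, fun x hx => cong_mul hdim m hx (hf' x hx) (hg' x hx)⟩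
  | neg D _ hD =>
    obtain ⟨f, hf, hf'⟩ := hD
    exact ⟨f⁻¹, isDivOf_neg hdim hf, fun x hx => cong_inv hdim m hx (hf' x hx)⟩

variable {m : Pt c →₀ ℕ} (hm : ∀ x : Pt c, m x ≤ 1)

include hm

theorem cong1At_iff {x : Pt c} (hx : x ∈ m.support) {g : X.functionField} :
    Cong1At m x g ↔ HasValueAt x g ((1 : kˣ) : k) := by
  refine ⟨value_one_of_cong hdim hx, fun h => ?_⟩
  rw [Units.val_one, HasValueAt, map_one, ord_sub_comm hdim] at h
  refine h.imp id fun h => ?_
  have := hm x
  omega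

theorem cong1At_div {x : Pt c} (hx : x ∈ m.support) {g h : X.functionField} {a : kˣ}
    (hg : HasValueAt x g (a : k)) (hh : HasValueAt x h (a : k)) : Cong1At m x (g / h) := by
  rw [cong1At_iff hdim hm hx, div_eq_mul_inv, ← mul_inv_cancel a, Units.val_mul]
  exact value_mul hdim x hg (value_inv hdim x hh)

omit hm in
theorem exists_isDivOf_agree (D : Pt c →₀ ℤ) :
    ∃ h : X.functionField, h ≠ 0 ∧ ∀ x ∈ m.support, x.ord h = D x := by
  letI := CrvFF30.kAlg c
  choose t ht0 ht using fun x : Pt c => FF30.exists_ord_eq (pl hdim x) (D x)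
  obtain ⟨h, hh, hcong⟩ := exists_cong_approx hdim m t ht0
  refine ⟨h, hh, fun x hx => ?_⟩
  have h1 := (ord_eq_zero_of_cong hdim m hx (hcong x hx)).2
  rw [ord_div hdim x (ht0 x) hh, ord_eq hdim x (t x), ht] at h1
  omega

omit hm in
theorem exists_prescribed_values (v : Pt c → kˣ) :
    ∃ g : X.functionField, g ≠ 0 ∧ ∀ x ∈ m.support, HasValueAt x g (v x : k) := by
  obtain ⟨g, hg, hcong⟩ := exists_cong_approx hdim m (fun x => constFun c (v x : k))
    (fun x => (map_ne_zero _).2 (v x).ne_zero)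
  refine ⟨g, hg, fun x hx => ?_⟩
  have h1 := value_inv hdim x (value_one_of_cong hdim hx (hcong x hx))
  have h2 := value_mul hdim x (.inl rfl : HasValueAt x (constFun c (v x : k)) (v x : k)) h1
  rwa [inv_div, mul_div_cancel₀ g ((map_ne_zero _).2 (v x).ne_zero), inv_one, Units.val_one, mul_one] at h2

omit hm in
theorem ord_eq_zero_of_values {g : X.functionField} {v : Pt c → kˣ}
    (hv : ∀ x ∈ m.support, HasValueAt x g (v x : k)) : ∀ x ∈ m.support, x.ord g = 0 :=
  fun x hx => (ord_eq_zero_of_value hdim x (hv x hx)).2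

omit hm in
theorem picModToPic_surjective : Function.Surjective (picModToPic c m) := by
  intro y
  obtain ⟨D, rfl⟩ := QuotientAddGroup.mk_surjective y
  obtain ⟨h, hh, hD⟩ := exists_isDivOf_agree hdim (m := m) D
  refine ⟨QuotientAddGroup.mk ⟨D - divOf hdim h, fun x hx => by
    rw [Finsupp.sub_apply, divOf_apply, hD x hx, sub_self]⟩, ?_⟩
  rw [picModToPic, QuotientAddGroup.map_mk]
  refine QuotientAddGroup.eq.2 ((mem_principal hdim _).2 ⟨h, ?_⟩)
  simpa using isDivOf_divOf hdim hh

omit hm in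
theorem picModToPic_eq_zero_iff (y : PicMod c m) : picModToPic c m y = 0 ↔
      ∃ (g : X.functionField) (D : divAway c m) (v : Pt c → kˣ),
        IsDivOf c (D : Pt c →₀ ℤ) g ∧ (∀ x ∈ m.support, HasValueAt x g (v x : k)) ∧
        y = (QuotientAddGroup.mk D : PicMod c m) := by
  classical
  obtain ⟨D, rfl⟩ := QuotientAddGroup.mk_surjective y
  rw [picModToPic, QuotientAddGroup.map_mk, QuotientAddGroup.eq_zero_iff]
  constructor
  · intro h
    obtain ⟨g, hg⟩ := (mem_principal hdim _).1 h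
    obtain ⟨v, hv⟩ := exists_values (c := c) hdim hg.1
    exact ⟨g, D, v, hg, fun x hx => hv x (by rw [← hg.2]; exact D.2 x hx), rfl⟩
  · rintro ⟨g, E, v, hg, hv, hDE⟩
    obtain ⟨f, hf, -⟩ := (mem_principalMod hdim m _).1 (QuotientAddGroup.eq.1 hDE.symm)
    refine (mem_principal hdim _).2 ⟨g * f, ?_⟩
    have := isDivOf_add hdim hg hf
    simpa using this

/-- The class of the divisor of a function with prescribed values vanishes iff they are all equal. -/
theorem class_eq_zero_iff {g : X.functionField} {D : divAway c m} {v : Pt c → kˣ}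
    (hg : IsDivOf c (D : Pt c →₀ ℤ) g) (hv : ∀ x ∈ m.support, HasValueAt x g (v x : k)) :
    (QuotientAddGroup.mk D : PicMod c m) = 0 ↔ ∃ a : kˣ, ∀ x ∈ m.support, v x = a := by
  rw [QuotientAddGroup.eq_zero_iff, mem_principalMod hdim]
  constructor
  · rintro ⟨f, hf, hcong⟩
    obtain ⟨a, ha⟩ := eq_const_mul_of_isDivOf hdim hg hf
    refine ⟨a, fun x hx => Units.ext (value_unique hdim x (hv x hx) ?_)⟩
    have := value_mul hdim x (.inl rfl : HasValueAt x (constFun c (a : k)) (a : k))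
      (value_one_of_cong hdim hx (hcong x hx))
    rwa [← ha, Units.val_one, mul_one] at this
  · rintro ⟨a, ha⟩
    have hca : constFun c (a : k) ≠ 0 := (map_ne_zero _).2 a.ne_zero
    refine ⟨g / constFun c (a : k), ⟨div_ne_zero hg.1 hca, fun x => by
      rw [ord_div hdim x hg.1 hca, ord_const hdim, sub_zero, hg.2]⟩, fun x hx => ?_⟩
    exact cong1At_div hdim hm hx (ha x hx ▸ hv x hx) (.inl rfl)

theorem class_eq_class_iff {g g' : X.functionField} {D D' : divAway c m} {v v' : Pt c → kˣ}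
    (hg : IsDivOf c (D : Pt c →₀ ℤ) g) (hv : ∀ x ∈ m.support, HasValueAt x g (v x : k))
    (hg' : IsDivOf c (D' : Pt c →₀ ℤ) g') (hv' : ∀ x ∈ m.support, HasValueAt x g' (v' x : k)) :
    (QuotientAddGroup.mk D : PicMod c m) = QuotientAddGroup.mk D' ↔
      ∃ a : kˣ, ∀ x ∈ m.support, v x = a * v' x := by
  rw [← sub_eq_zero, ← QuotientAddGroup.mk_sub]
  have h := class_eq_zero_iff hdim hm (D := D - D') (g := g * g'⁻¹) (v := fun x => v x * (v' x)⁻¹)
    (by rw [AddSubgroup.coe_sub, sub_eq_add_neg]; exact isDivOf_add hdim hg (isDivOf_neg hdim hg'))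
    (fun x hx => by
      rw [Units.val_mul]
      exact value_mul hdim x (hv x hx) (value_inv hdim x (hv' x hx)))
  refine h.trans (exists_congr fun a => forall₂_congr fun x _ => ?_)
  rw [mul_inv_eq_iff_eq_mul]

theorem nsmul_class_eq_zero_iff {g : X.functionField} {D : divAway c m} {v : Pt c → kˣ}
    (hg : IsDivOf c (D : Pt c →₀ ℤ) g) (hv : ∀ x ∈ m.support, HasValueAt x g (v x : k)) (n : ℕ) :
    n • (QuotientAddGroup.mk D : PicMod c m) = 0 ↔ ∃ a : kˣ, ∀ x ∈ m.support, v x ^ n = a := by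
  rw [← QuotientAddGroup.mk_nsmul]
  have h := class_eq_zero_iff hdim hm (D := n • D) (g := g ^ (n : ℤ)) (v := fun x => v x ^ n)
    (by rw [AddSubgroupClass.coe_nsmul, ← natCast_zsmul]; exact isDivOf_zsmul hdim hg n)
    (fun x hx => by simpa using value_zpow hdim x (hv x hx) (n : ℤ))
  exact h

omit hdim hm in
theorem exists_root (a : kˣ) {n : ℕ} (hn : 1 ≤ n) : ∃ b : kˣ, b ^ n = a := by
  obtain ⟨z, hz⟩ := IsAlgClosed.exists_pow_nat_eq (a : k) (show 0 < n by omega)
  have hz0 : z ≠ 0 := fun e => a.ne_zero (by rw [← hz, e, zero_pow (by omega)])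
  exact ⟨Units.mk0 z hz0, Units.ext (by rw [Units.val_pow_eq_pow_val, Units.val_mk0, hz])⟩

theorem torsion_surjective {n : ℕ} (hn : 1 ≤ n) (y : Pic c) (hy : n • y = 0) :
    ∃ x : PicMod c m, n • x = 0 ∧ picModToPic c m x = y := by
  classical
  obtain ⟨D, rfl⟩ := QuotientAddGroup.mk_surjective y
  rw [← QuotientAddGroup.mk_nsmul, QuotientAddGroup.eq_zero_iff] at hy
  obtain ⟨g, hg⟩ := (mem_principal hdim _).1 hy
  obtain ⟨h, hh, hD⟩ := exists_isDivOf_agree hdim (m := m) D
  have hg1 : g * (h ^ n)⁻¹ ≠ 0 := mul_ne_zero hg.1 (inv_ne_zero (pow_ne_zero _ hh))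
  have hord1 : ∀ x : Pt c, x.ord (g * (h ^ n)⁻¹) = n * (D x - x.ord h) := fun x => by
    rw [ord_mul hdim x hg.1 (inv_ne_zero (pow_ne_zero _ hh)), ord_inv hdim, ord_pow hdim, ← hg.2,
      Finsupp.smul_apply, nsmul_eq_mul]
    ring
  obtain ⟨v, hv⟩ := exists_values (c := c) hdim hg1
  choose w hw using fun x => exists_root (v x) hn
  obtain ⟨h₂, hh₂, hw₂⟩ := exists_prescribed_values hdim (m := m) w
  let E : Pt c →₀ ℤ := D - divOf hdim h - divOf hdim h₂
  have hE : E ∈ divAway c m := fun x hx => by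
    simp only [E, Finsupp.sub_apply, divOf_apply, hD x hx, sub_self, ord_eq_zero_of_values hdim hw₂ x hx]
  refine ⟨QuotientAddGroup.mk ⟨E, hE⟩, ?_, ?_⟩
  · rw [← QuotientAddGroup.mk_nsmul, QuotientAddGroup.eq_zero_iff, mem_principalMod hdim]
    refine ⟨g * (h ^ n)⁻¹ / h₂ ^ n, ⟨div_ne_zero hg1 (pow_ne_zero _ hh₂), fun x => ?_⟩, fun x hx => ?_⟩
    · rw [ord_div hdim x hg1 (pow_ne_zero _ hh₂), ord_pow hdim, hord1, AddSubgroupClass.coe_nsmul,
        Finsupp.smul_apply, nsmul_eq_mul]
      simp only [E, Finsupp.sub_apply, divOf_apply]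
      ring
    · refine cong1At_div hdim hm hx (hv x (by rw [hord1, hD x hx, sub_self, mul_zero])) ?_
      have := value_zpow hdim x (hw₂ x hx) (n : ℤ)
      simpa [hw] using this
  · rw [picModToPic, QuotientAddGroup.map_mk]
    refine QuotientAddGroup.eq.2 ((mem_principal hdim _).2 ⟨h * h₂, ?_⟩)
    have := isDivOf_add hdim (isDivOf_divOf (c := c) hdim hh) (isDivOf_divOf (c := c) hdim hh₂)
    convert this using 1
    simp [E]
    abel

theorem card_torsion_kernel {n : ℕ} (hn : 1 ≤ n) (hnk : (n : k) ≠ 0) :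
    Nat.card {x : PicMod c m // n • x = 0 ∧ picModToPic c m x = 0} = n ^ (m.support.card - 1) := by
  classical
  rcases m.support.eq_empty_or_nonempty with he | ⟨x₀, hx₀⟩
  · have : Subsingleton {x : PicMod c m // n • x = 0 ∧ picModToPic c m x = 0} := ⟨fun a b => by
      obtain ⟨g, D, v, hg, hv, ha⟩ := (picModToPic_eq_zero_iff hdim a.1).1 a.2.2
      obtain ⟨g', D', v', hg', hv', hb⟩ := (picModToPic_eq_zero_iff hdim b.1).1 b.2.2
      refine Subtype.ext ?_
      rw [ha, hb, class_eq_class_iff hdim hm hg hv hg' hv']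
      exact ⟨1, by simp [he]⟩⟩
    have : Nonempty {x : PicMod c m // n • x = 0 ∧ picModToPic c m x = 0} := ⟨⟨0, by simp, map_zero _⟩⟩
    rw [he, Nat.card_unique]
    simp
  · have : NeZero n := ⟨by omega⟩
    have : NeZero (n : k) := ⟨hnk⟩
    let S' := m.support.erase x₀
    let ext : (S' → rootsOfUnity n k) → Pt c → kˣ := fun u x => if h : x ∈ S' then (u ⟨x, h⟩ : kˣ) else 1
    have hext : ∀ u x, ext u x ^ n = 1 := fun u x => by
      simp only [ext]
      split_ifs with h
      · exact (mem_rootsOfUnity n _).1 (u ⟨x, h⟩).2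
      · exact one_pow n
    have hext0 : ∀ u, ext u x₀ = 1 := fun u => dif_neg (by simp [S'])
    choose g hg hgv using fun u => exists_prescribed_values hdim (m := m) (ext u)
    let E : (S' → rootsOfUnity n k) → divAway c m := fun u =>
      ⟨divOf hdim (g u), ord_eq_zero_of_values hdim (hgv u)⟩
    let Φ : (S' → rootsOfUnity n k) → {x : PicMod c m // n • x = 0 ∧ picModToPic c m x = 0} := fun u =>
      ⟨QuotientAddGroup.mk (E u),
        (nsmul_class_eq_zero_iff hdim hm (isDivOf_divOf hdim (hg u)) (hgv u) n).2 ⟨1, fun x _ => hext u x⟩,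
        (picModToPic_eq_zero_iff hdim _).2 ⟨g u, E u, ext u, isDivOf_divOf hdim (hg u), hgv u, rfl⟩⟩
    have hΦ : Function.Bijective Φ := by
      constructor
      · intro u u' e
        obtain ⟨a, ha⟩ := (class_eq_class_iff hdim hm (isDivOf_divOf hdim (hg u)) (hgv u)
          (isDivOf_divOf hdim (hg u')) (hgv u')).1 (congrArg Subtype.val e)
        have ha1 : a = 1 := by
          have := ha x₀ hx₀
          rw [hext0, hext0, mul_one] at this
          exact this.symm
        funext s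
        have h1 := ha s.1 (Finset.mem_of_mem_erase s.2)
        rw [ha1, one_mul] at h1
        refine Subtype.ext ?_
        simpa [ext, dif_pos s.2] using h1
      · intro y
        obtain ⟨f, D, v, hf, hv, hy⟩ := (picModToPic_eq_zero_iff hdim y.1).1 y.2.2
        have hn0 := y.2.1
        rw [hy, nsmul_class_eq_zero_iff hdim hm hf hv] at hn0
        obtain ⟨a, ha⟩ := hn0
        have hroot : ∀ s : S', v s.1 * (v x₀)⁻¹ ∈ rootsOfUnity n k := fun s => by
          rw [mem_rootsOfUnity, mul_pow, inv_pow, ha s.1 (Finset.mem_of_mem_erase s.2), ha x₀ hx₀, mul_inv_cancel]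
        refine ⟨fun s => ⟨_, hroot s⟩, Subtype.ext ?_⟩
        rw [hy]
        refine (class_eq_class_iff hdim hm (isDivOf_divOf hdim (hg _)) (hgv _) hf hv).2 ⟨(v x₀)⁻¹, fun x hx => ?_⟩
        by_cases h : x ∈ S'
        · simp only [ext, dif_pos h]
          exact mul_comm _ _
        · have : x = x₀ := by simpa [S', hx] using h
          rw [this]
          simp [ext, S']
    rw [← Nat.card_eq_of_bijective Φ hΦ, Nat.card_fun, HasEnoughRootsOfUnity.natCard_rootsOfUnity,
      Nat.card_eq_fintype_card, Fintype.card_coe, Finset.card_erase_of_mem hx₀]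

end Groth.Agent.LocSym56
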