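import Groth.Agent.LocSym56.Basic

/-! Moduli and local symbols. -/

set_option autoImplicit false
set_option linter.style.haveILetI false
set_option linter.unusedSectionVars false
set_option backward.isDefEq.respectTransparency.types false

universe v u

open CategoryTheory AlgebraicGeometry TopologicalSpace LocSym Function

namespace Groth.Agent.LocSym56

variable {k : Type u} [Field k] [IsAlgClosed k] {X : Scheme.{u}} [IsIntegral X]
  {c : X ⟶ Spec (CommRingCat.of k)} [IsProper c] [Smooth c] (hdim : topologicalKrullDim X = 1)
  {G : Type v} [CommGroup G] (f : Pt c → G) (m : Pt c →₀ ℕ)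

open Classical in
/-- The value of `f` on the divisor of `g` outside a set of points. -/
noncomputable def evalOff (T : Finset (Pt c)) (g : X.functionField) : G :=
  ∏ᶠ x : Pt c, if x ∈ T then 1 else f x ^ x.ord g

include hdim

theorem finite_mulSupport (T : Finset (Pt c)) (g : X.functionField) :
    (mulSupport fun x : Pt c => (open Classical in if x ∈ T then 1 else f x ^ x.ord g)).Finite := by
  classical
  refine (finite_ord hdim g).subset fun x hx => ?_
  intro h
  simp [h] at hx

theorem evalOff_mul (T : Finset (Pt c)) {g h : X.functionField} (hg : g ≠ 0) (hh : h ≠ 0) :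
    evalOff f T (g * h) = evalOff f T g * evalOff f T h := by
  classical
  rw [evalOff, evalOff, evalOff, ← finprod_mul_distrib (finite_mulSupport hdim f T g) (finite_mulSupport hdim f T h)]
  refine finprod_congr fun x => ?_
  split_ifs
  · rw [one_mul]
  · rw [ord_mul hdim x hg hh, zpow_add]

theorem evalOff_one (T : Finset (Pt c)) : evalOff f T (1 : X.functionField) = 1 := by
  refine finprod_eq_one_of_forall_eq_one fun x => ?_
  split_ifs
  · rfl
  · rw [ord_one hdim, zpow_zero]

omit hdim in
theorem evalDiv_eq_evalOff (g : X.functionField) : evalDiv m f g = evalOff f m.support g := rfl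

/-! ### Congruences -/

theorem ord_eq_zero_of_cong {x : Pt c} (hx : x ∈ m.support) {g : X.functionField} (hg : Cong1At m x g) :
    g ≠ 0 ∧ x.ord g = 0 := by
  have hm : 1 ≤ (m x : ℤ) := by
    have := Finsupp.mem_support_iff.1 hx
    omega
  rcases hg with rfl | hg
  · exact ⟨one_ne_zero, ord_one hdim x⟩
  · have h := ord_add_eq_of_lt hdim x (f := (1 : X.functionField)) (g := -(1 - g)) one_ne_zero
      (.inr (by rw [ord_one hdim, ord_neg hdim]; omega))
    rw [show (1 : X.functionField) + -(1 - g) = g by ring, ord_one hdim] at h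
    exact h

theorem cong_mul {x : Pt c} (hx : x ∈ m.support) {g h : X.functionField} (hg : Cong1At m x g)
    (hh : Cong1At m x h) : Cong1At m x (g * h) := by
  by_cases hgh : g * h = 1
  · exact .inl hgh
  obtain ⟨hg0, hgo⟩ := ord_eq_zero_of_cong hdim m hx hg
  refine .inr ?_
  have hne : (1 - g) + g * (1 - h) ≠ 0 := by
    intro h0
    refine hgh ?_
    rw [show (1 - g) + g * (1 - h) = 1 - g * h by ring, sub_eq_zero] at h0
    exact h0.symm
  rw [show 1 - g * h = (1 - g) + g * (1 - h) by ring]
  refine le_ord_add hdim x hne _ (hg.imp (fun e => by rw [e, sub_self]) id) ?_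
  rcases hh with rfl | hh
  · exact .inl (by rw [sub_self, mul_zero])
  · rcases eq_or_ne (1 - h) 0 with e | e
    · exact .inl (by rw [e, mul_zero])
    · exact .inr (by rw [ord_mul hdim x hg0 e, hgo, zero_add]; exact hh)

theorem cong_inv {x : Pt c} (hx : x ∈ m.support) {g : X.functionField} (hg : Cong1At m x g) :
    Cong1At m x g⁻¹ := by
  obtain ⟨hg0, hgo⟩ := ord_eq_zero_of_cong hdim m hx hg
  rcases hg with rfl | hg
  · exact .inl inv_one
  · refine .inr ?_
    rcases eq_or_ne g 1 with rfl | hg1
    · rwa [inv_one]
    rw [show 1 - g⁻¹ = -(1 - g) / g by field_simp; ring, ord_div hdim x (neg_ne_zero.2 (sub_ne_zero.2 (Ne.symm hg1))) hg0,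
      ord_neg hdim, hgo, sub_zero]
    exact hg

theorem cong_div {x : Pt c} (hx : x ∈ m.support) {g h : X.functionField} (hg : Cong1At m x g)
    (hh : Cong1At m x h) : Cong1At m x (g / h) := by
  rw [div_eq_mul_inv]
  exact cong_mul hdim m hx hg (cong_inv hdim m hx hh)

/-- Multiplicative approximation. -/
theorem exists_cong_approx (t : Pt c → X.functionField) (ht : ∀ x, t x ≠ 0) :
    ∃ h : X.functionField, h ≠ 0 ∧ ∀ x ∈ m.support, Cong1At m x (t x / h) := by
  rcases m.support.eq_empty_or_nonempty with he | ⟨x₀, hx₀⟩
  · exact ⟨1, one_ne_zero, by simp [he]⟩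
  obtain ⟨y, hy⟩ := exists_approx hdim m.support t fun x => x.ord (t x) + m x
  have key : ∀ x ∈ m.support, y ≠ 0 ∧ Cong1At m x (y / t x) := by
    intro x hx
    rcases hy x hx with rfl | h
    · exact ⟨ht x, .inl (div_self (ht x))⟩
    · have hm : 1 ≤ (m x : ℤ) := by
        have := Finsupp.mem_support_iff.1 hx
        omega
      have hy0 : y ≠ 0 := by
        rintro rfl
        rw [zero_sub, ord_neg hdim] at h
        omega
      refine ⟨hy0, ?_⟩
      rcases eq_or_ne y (t x) with rfl | hne
      · exact .inl (div_self (ht x))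
      refine .inr ?_
      rw [show 1 - y / t x = (t x - y) / t x by rw [sub_div, div_self (ht x)],
        ord_div hdim x (sub_ne_zero.2 hne.symm) (ht x), ord_sub_comm hdim]
      omega
  refine ⟨y, (key x₀ hx₀).1, fun x hx => ?_⟩
  rw [← inv_div]
  exact cong_inv hdim m hx (key x hx).2

/-! ### Local symbols -/

variable {f m}

theorem IsLocalSymbol_symbol_congr {σ : Pt c → (X.functionField)ˣ →* G} (hσ : IsLocalSymbol f m σ)
    {x : Pt c} (hx : x ∈ m.support) {g h : (X.functionField)ˣ}
    (hgh : Cong1At m x ((g : X.functionField) / h)) : σ x g = σ x h := by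
  have := hσ.eq_one_of_cong x hx (g / h) (by rwa [Units.val_div_eq_div_val])
  rwa [map_div, div_eq_one] at this

/-- The symbol at a point is determined by an approximation. -/
theorem IsLocalSymbol_symbol_eq {σ : Pt c → (X.functionField)ˣ →* G} (hσ : IsLocalSymbol f m σ)
    (T : Finset (Pt c)) (hT : m.support ⊆ T) {x : Pt c} (hxT : x ∈ T) (h : (X.functionField)ˣ)
    (hcong : ∀ y ∈ T, y ≠ x → (y ∈ m.support → Cong1At m y (h : X.functionField)) ∧ y.ord (h : X.functionField) = 0) :
    σ x h = (evalOff f T (h : X.functionField))⁻¹ := by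
  classical
  have hfin := finite_mulSupport hdim f T (h : X.functionField)
  have hfin' : (mulSupport fun y : Pt c => if y = x then σ x h else 1).Finite :=
    (Set.finite_singleton x).subset fun y hy => by
      by_contra hne
      exact hy (if_neg hne)
  have hall : ∀ y, σ y h = (if y = x then σ x h else 1) * (if y ∈ T then 1 else f y ^ y.ord (h : X.functionField)) := by
    intro y
    by_cases hyx : y = x
    · subst hyx
      simp [hxT]
    rw [if_neg hyx, one_mul]
    by_cases hyT : y ∈ T
    · rw [if_pos hyT]
      by_cases hym : y ∈ m.support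
      · exact hσ.eq_one_of_cong y hym h ((hcong y hyT hyx).1 hym)
      · rw [hσ.eq_pow_of_notMem y hym, (hcong y hyT hyx).2, zpow_zero]
    · rw [if_neg hyT]
      exact hσ.eq_pow_of_notMem y (fun hy => hyT (hT hy)) h
  have hone := hσ.finprod_eq_one h
  rw [finprod_congr hall, finprod_mul_distrib hfin' hfin, finprod_eq_single _ x fun y hy => if_neg hy,
    if_pos rfl] at hone
  exact eq_inv_of_mul_eq_one_left hone

theorem symbol_unique (n : Pt c →₀ ℕ) {σ τ : Pt c → (X.functionField)ˣ →* G}
    (hσ : IsLocalSymbol f m σ) (hτ : IsLocalSymbol f n τ) : σ = τ := by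
  classical
  funext x
  refine MonoidHom.ext fun g => ?_
  by_cases hx : x ∈ (m + n).support
  swap
  · rw [Finsupp.mem_support_iff, Finsupp.add_apply, not_not, Nat.add_eq_zero_iff] at hx
    rw [hσ.eq_pow_of_notMem x (by simp [hx.1]), hτ.eq_pow_of_notMem x (by simp [hx.2])]
  obtain ⟨h, hh, hcong⟩ := exists_cong_approx hdim (m + n)
    (fun y => if y = x then (g : X.functionField) else 1) (fun y => by split_ifs <;> simp)
  have hsub : m.support ⊆ (m + n).support ∧ n.support ⊆ (m + n).support := by
    constructor <;> intro y hy <;> simp at hy ⊢ <;> omega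
  have hle : ∀ (p : Pt c →₀ ℕ), (∀ y, p y ≤ (m + n) y) → ∀ y (z : X.functionField),
      Cong1At (m + n) y z → Cong1At p y z := fun p hp y z hz =>
    hz.imp id fun hz' => le_trans (by exact_mod_cast hp y) hz'
  have hm : ∀ y, m y ≤ (m + n) y := fun y => by simp
  have hn : ∀ y, n y ≤ (m + n) y := fun y => by simp
  have hother : ∀ y ∈ (m + n).support, y ≠ x → Cong1At (m + n) y h := fun y hy hyx => by
    have := hcong y hy
    rw [if_neg hyx, one_div] at this
    simpa using cong_inv hdim _ hy this
  have hat : Cong1At (m + n) x ((g : X.functionField) / h) := by simpa using hcong x hx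
  have key : ∀ (p : Pt c →₀ ℕ) (ρ : Pt c → (X.functionField)ˣ →* G), IsLocalSymbol f p ρ →
      (∀ y, p y ≤ (m + n) y) → p.support ⊆ (m + n).support →
      ρ x g = (evalOff f (m + n).support h)⁻¹ := by
    intro p ρ hρ hp hps
    have heq : ρ x g = ρ x (Units.mk0 h hh) := by
      by_cases hxp : x ∈ p.support
      · exact IsLocalSymbol_symbol_congr hdim hρ hxp (hle p hp x _ hat)
      · rw [hρ.eq_pow_of_notMem x hxp, hρ.eq_pow_of_notMem x hxp]
        have := (ord_eq_zero_of_cong hdim _ hx hat).2
        rw [ord_div hdim x g.ne_zero hh] at this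
        simp only [Units.val_mk0]
        rw [show x.ord (g : X.functionField) = x.ord h by omega]
    rw [heq]
    exact IsLocalSymbol_symbol_eq hdim hρ _ hps hx (Units.mk0 h hh) fun y hy hyx =>
      ⟨fun _ => hle p hp y _ (hother y hy hyx), (ord_eq_zero_of_cong hdim _ hy (hother y hy hyx)).2⟩
  rw [key m σ hσ hm hsub.1, key n τ hτ hn hsub.2]

theorem isModulus_of_isLocalSymbol {σ : Pt c → (X.functionField)ˣ →* G} (hσ : IsLocalSymbol f m σ) :
    IsModulus f m := by
  classical
  intro g hg hcong
  have h := hσ.finprod_eq_one (Units.mk0 g hg)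
  rw [evalDiv]
  refine Eq.trans (finprod_congr fun x => ?_) h
  split_ifs with hx
  · have hc : Cong1At m x ((Units.mk0 g hg : (X.functionField)ˣ) : X.functionField) := by
      rw [Units.val_mk0]; exact hcong x hx
    rw [hσ.eq_one_of_cong x hx (Units.mk0 g hg) hc]
  · rw [hσ.eq_pow_of_notMem x hx (Units.mk0 g hg), Units.val_mk0]

theorem evalOff_eq_of_cong (hf : IsModulus f m) {g h : X.functionField} (hg : g ≠ 0) (hh : h ≠ 0)
    (hcong : Cong1 m (g / h)) : evalOff f m.support g = evalOff f m.support h := by
  have h1 := hf (g / h) (div_ne_zero hg hh) hcong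
  rw [evalDiv_eq_evalOff] at h1
  rw [← div_mul_cancel₀ g hh, evalOff_mul hdim f _ (div_ne_zero hg hh) hh, h1, one_mul]

theorem exists_isLocalSymbol (hf : IsModulus f m) :
    ∃ σ : Pt c → (X.functionField)ˣ →* G, IsLocalSymbol f m σ := by
  classical
  choose h hh hcong using fun (x : Pt c) (g : (X.functionField)ˣ) => exists_cong_approx hdim m
    (fun y => if y = x then (g : X.functionField) else 1) (fun y => by split_ifs <;> simp)
  have hcong' : ∀ x (g : (X.functionField)ˣ) (e : X.functionField),
      (∀ y ∈ m.support, Cong1At m y ((if y = x then (g : X.functionField) else 1) / e)) →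
      e ≠ 0 → evalOff f m.support (h x g) = evalOff f m.support e := by
    intro x g e he he0
    refine evalOff_eq_of_cong hdim hf (hh x g) he0 fun y hy => ?_
    have ht : (if y = x then (g : X.functionField) else 1) ≠ 0 := by split_ifs <;> simp
    have := cong_div hdim m hy (he y hy) (hcong x g y hy)
    rwa [div_div_div_cancel_left' _ _ ht] at this
  let σ : Pt c → (X.functionField)ˣ →* G := fun x =>
    { toFun := fun g => if x ∈ m.support then (evalOff f m.support (h x g))⁻¹ else f x ^ x.ord (g : X.functionField)
      map_one' := by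
        split_ifs
        · rw [hcong' x 1 1 (fun y hy => by simp [Cong1At]) one_ne_zero, evalOff_one hdim, inv_one]
        · rw [Units.val_one, ord_one hdim, zpow_zero]
      map_mul' := fun a b => by
        split_ifs
        · rw [hcong' x (a * b) (h x a * h x b) (fun y hy => ?_) (mul_ne_zero (hh x a) (hh x b)),
            evalOff_mul hdim f _ (hh x a) (hh x b), mul_inv]
          have := cong_mul hdim m hy (hcong x a y hy) (hcong x b y hy)
          rw [div_mul_div_comm] at this
          split_ifs at this ⊢ <;> simpa using this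
        · rw [Units.val_mul, ord_mul hdim x a.ne_zero b.ne_zero, zpow_add] }
  have hσin : ∀ x ∈ m.support, ∀ g, σ x g = (evalOff f m.support (h x g))⁻¹ := fun x hx g => if_pos hx
  have hσout : ∀ x ∉ m.support, ∀ g, σ x g = f x ^ x.ord (g : X.functionField) := fun x hx g => if_neg hx
  refine ⟨σ, ⟨fun x hx g hg => ?_, hσout, fun g => ?_, fun g => ?_⟩⟩
  · rw [hσin x hx, hcong' x g 1 (fun y hy => ?_) one_ne_zero, evalOff_one hdim, inv_one]
    rw [div_one]
    split_ifs with hyx
    · exact hyx ▸ hg
    · exact .inl rfl
  · refine (m.support.finite_toSet.union (finite_ord hdim (g : X.functionField))).subset fun x hx => ?_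
    by_cases hxm : x ∈ m.support
    · exact .inl hxm
    · refine .inr fun h0 => hx ?_
      show σ x g = 1
      rw [hσout x hxm, h0, zpow_zero]
  · -- the product formula
    have hsplit : ∀ x, σ x g = (if x ∈ m.support then (evalOff f m.support (h x g))⁻¹ else 1) *
        (if x ∈ m.support then 1 else f x ^ x.ord (g : X.functionField)) := fun x => by
      split_ifs with hx
      · rw [hσin x hx, mul_one]
      · rw [hσout x hx, one_mul]
    have hfin : (mulSupport fun x : Pt c =>
        if x ∈ m.support then (evalOff f m.support (h x g))⁻¹ else 1).Finite :=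
      m.support.finite_toSet.subset fun x hx => by
        by_contra hxm
        exact hx (if_neg hxm)
    rw [finprod_congr hsplit, finprod_mul_distrib hfin (finite_mulSupport hdim f _ _),
      finprod_eq_prod_of_mulSupport_subset _ (s := m.support) (fun x hx => by
        by_contra hxm
        exact hx (if_neg hxm))]
    rw [Finset.prod_congr rfl fun x hx => if_pos hx, Finset.prod_inv_distrib, inv_mul_eq_one]
    have hprod : ∀ S : Finset (Pt c), ∏ x ∈ S, evalOff f m.support (h x g) =
        evalOff f m.support (∏ x ∈ S, h x g) := by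
      intro S
      induction S using Finset.induction_on with
      | empty => simp [evalOff_one hdim]
      | @insert x S hx ih =>
        rw [Finset.prod_insert hx, Finset.prod_insert hx, ih,
          evalOff_mul hdim f _ (hh x g) (Finset.prod_ne_zero_iff.2 fun y _ => hh y g)]
    rw [hprod]
    refine evalOff_eq_of_cong hdim hf (Finset.prod_ne_zero_iff.2 fun y _ => hh y g) g.ne_zero fun y hy => ?_
    have hall : ∀ S : Finset (Pt c), S ⊆ m.support →
        Cong1At m y ((if y ∈ S then (g : X.functionField) else 1) / ∏ x ∈ S, h x g) := by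
      intro S
      induction S using Finset.induction_on with
      | empty => intro; exact .inl (by simp)
      | @insert x S hx ih =>
        intro hS
        rw [Finset.prod_insert hx]
        have h1 := cong_mul hdim m hy (hcong x g y hy) (ih ((Finset.subset_insert x S).trans hS))
        rw [div_mul_div_comm] at h1
        by_cases hyx : y = x
        · subst hyx
          simpa [hx] using h1
        · simpa [hyx] using h1
    have h2 := hall m.support subset_rfl
    rw [if_pos hy] at h2
    have h3 := cong_inv hdim m hy h2
    rwa [inv_div] at h3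

end Groth.Agent.LocSym56
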